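import Groth.Agent.Lib.Comodule.CoactAlg
import Groth.Agent.Lib.FinGenH28.Basic
import Groth.Agent.Lib.FreeOrbH28.Dim
import Mathlib.RingTheory.Smooth.IntegralClosure
import Mathlib.RingTheory.ZariskisMainTheorem
import Mathlib.AlgebraicGeometry.Morphisms.OpenImmersion

/-!
# The equivariant form of Zariski's main theorem
-/

open TensorProduct HopfRep Groth.Agent.Comodule CategoryTheory AlgebraicGeometry

universe u

namespace Groth.Agent.EqZMT28

variable {k : Type u} [Field k]

section

variable {A : Type u} [CommRing A] [HopfAlgebra k A]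
  {R : Type u} [CommRing R] [Algebra k R] [Comod k A R] [GLin.IsCoactAlg k A R]

/-- A stable subalgebra is a comodule algebra. -/
lemma subalgebra_isCoactAlg (B : Subalgebra k R) (hB : IsSubcomod (k := k) (A := A) (Subalgebra.toSubmodule B)) :
    @GLin.IsCoactAlg k _ A _ _ B _ _ (subComod (Subalgebra.toSubmodule B) hB) := by
  letI : Comod k A B := subComod (Subalgebra.toSubmodule B) hB
  have hinj : Function.Injective (Algebra.TensorProduct.map B.val (AlgHom.id k A)) := fun a b h =>
    rTensor_subtype_injective (Subalgebra.toSubmodule B) h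
  have e : ∀ b : B, Algebra.TensorProduct.map B.val (AlgHom.id k A) (Comod.coact (k := k) (A := A) b) =
      Comod.coact (k := k) (A := A) (b : R) := fun b => rTensor_coactRestrict (Subalgebra.toSubmodule B) hB b
  constructor
  · apply hinj
    rw [e, map_one (Algebra.TensorProduct.map B.val (AlgHom.id k A)), OneMemClass.coe_one, GLin.IsCoactAlg.coact_one]
  · intro a b
    apply hinj
    rw [map_mul (Algebra.TensorProduct.map B.val (AlgHom.id k A)), e, e, e, MulMemClass.coe_mul, GLin.IsCoactAlg.coact_mul]

end

lemma smooth_hopf (k : Type u) [Field k] [CharZero k] (A : Type u) [CommRing A] [HopfAlgebra k A]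
    [Algebra.FiniteType k A] : Algebra.Smooth k A := by
  let G := (Spec (CommRingCat.of A)).asOver (Spec (CommRingCat.of k))
  haveI : LocallyOfFiniteType G.hom := by
    show LocallyOfFiniteType (Spec.map (CommRingCat.ofHom (algebraMap k A)))
    rw [HasRingHomProperty.Spec_iff (P := @LocallyOfFiniteType)]
    exact RingHom.finiteType_algebraMap.2 inferInstance
  have hs : Smooth G.hom := Groth.Agent.Cartier.smooth_of_charZero (K := k) G
  change Smooth (Spec.map (CommRingCat.ofHom (algebraMap k A))) at hs
  rw [HasRingHomProperty.Spec_iff (P := @Smooth)] at hs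
  exact RingHom.smooth_algebraMap.1 hs

variable [CharZero k] {A : Type u} [CommRing A] [HopfAlgebra k A] [Algebra.FiniteType k A]
  {S : Type u} [CommRing S] [Algebra k S] [Comod k A S] [GLin.IsCoactAlg k A S]
  {R : Type u} [CommRing R] [Algebra k R] [Comod k A R] [GLin.IsCoactAlg k A R]
  [Algebra S R] [IsScalarTower k S R]
  (hequiv : ∀ s : S, Comod.coact (k := k) (A := A) (algebraMap S R s) =
      Algebra.TensorProduct.map (IsScalarTower.toAlgHom k S R) (AlgHom.id k A) (Comod.coact (k := k) (A := A) s))

include hequiv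

/-- The integral closure is stable. -/
lemma isSubcomod_integralClosure :
    IsSubcomod (k := k) (A := A) ((integralClosure S R).toSubmodule.restrictScalars k) := by
  intro b hb
  haveI := smooth_hopf k A
  let ι := Algebra.TensorProduct.map (IsScalarTower.toAlgHom k S R) (AlgHom.id k A)
  letI : Algebra (S ⊗[k] A) (R ⊗[k] A) := ι.toRingHom.toAlgebra
  -- the identification with the base change
  let inR : R →ₐ[S] R ⊗[k] A := Algebra.TensorProduct.includeLeft
  let lA : S ⊗[k] A →ₐ[S] R ⊗[k] A :=
    { ι.toRingHom with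
      commutes' := fun s => by
        show Algebra.TensorProduct.map (IsScalarTower.toAlgHom k S R) (AlgHom.id k A) (s ⊗ₜ[k] 1) = _
        rw [Algebra.TensorProduct.map_tmul, map_one]
        rfl }
  let Θ : (S ⊗[k] A) ⊗[S] R →ₐ[S] R ⊗[k] A := Algebra.TensorProduct.lift lA inR fun _ _ => Commute.all _ _
  let inA : A →ₐ[k] (S ⊗[k] A) ⊗[S] R :=
    ((Algebra.TensorProduct.includeLeft : S ⊗[k] A →ₐ[S] (S ⊗[k] A) ⊗[S] R).restrictScalars k).comp
      Algebra.TensorProduct.includeRight
  let inR' : R →ₐ[k] (S ⊗[k] A) ⊗[S] R :=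
    (Algebra.TensorProduct.includeRight : R →ₐ[S] (S ⊗[k] A) ⊗[S] R).restrictScalars k
  let Ψ : R ⊗[k] A →ₐ[k] (S ⊗[k] A) ⊗[S] R := Algebra.TensorProduct.lift inR' inA fun _ _ => Commute.all _ _
  have hΘΨ : ∀ z, Θ (Ψ z) = z := by
    intro z
    induction z with
    | zero => simp
    | add p q hp hq => rw [map_add, map_add, hp, hq]
    | tmul r a => simp [Θ, Ψ, inR', inA, lA, inR, ι]
  have hΨΘ : ∀ z, Ψ (Θ z) = z := by
    intro z
    induction z with
    | zero => simp
    | add p q hp hq => rw [map_add, map_add, hp, hq]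
    | tmul w r =>
      induction w with
      | zero => simp
      | add p q hp hq => rw [TensorProduct.add_tmul, map_add, map_add, hp, hq]
      | tmul s a =>
        simp [Θ, Ψ, inR', inA, lA, inR, ι]
        rw [← Algebra.smul_def, ← TensorProduct.smul_tmul, TensorProduct.smul_tmul', smul_eq_mul, mul_one]
  have hbi : IsIntegral (S ⊗[k] A) (Ψ (Comod.coact (k := k) (A := A) b)) := by
    have h1 : IsIntegral S b := hb
    obtain ⟨p, hp, hp0⟩ := h1
    refine ⟨p.map (GLin.coactAlgHom k A S).toRingHom, hp.map _, ?_⟩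
    rw [Polynomial.eval₂_map]
    have hc : (algebraMap (S ⊗[k] A) ((S ⊗[k] A) ⊗[S] R)).comp (GLin.coactAlgHom k A S).toRingHom =
        (Ψ.toRingHom.comp (GLin.coactAlgHom k A R).toRingHom).comp (algebraMap S R) := by
      refine RingHom.ext fun s => ?_
      show (GLin.coactAlgHom k A S s) ⊗ₜ[S] (1 : R) = Ψ (Comod.coact (k := k) (A := A) (algebraMap S R s))
      rw [hequiv, GLin.coactAlgHom_apply]
      generalize Comod.coact (k := k) (A := A) s = d
      induction d with
      | zero => simp
      | add p q hp hq => rw [TensorProduct.add_tmul, map_add, map_add, hp, hq]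
      | tmul s' a =>
        simp [Ψ, inR', inA]
    rw [hc, show Ψ (Comod.coact (k := k) (A := A) b) = (Ψ.toRingHom.comp (GLin.coactAlgHom k A R).toRingHom) b from rfl,
      ← Polynomial.hom_eval₂, hp0, map_zero]
  obtain ⟨w, hw⟩ := (TensorProduct.toIntegralClosure_bijective_of_smooth (R := S) (S := S ⊗[k] A) (B := R)).2 ⟨_, hbi⟩
  have hw' : Θ (Algebra.TensorProduct.map (AlgHom.id (S ⊗[k] A) (S ⊗[k] A)) (integralClosure S R).val w) =
      Comod.coact (k := k) (A := A) b := by
    rw [← hΘΨ (Comod.coact (k := k) (A := A) b)]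
    congr 1
    exact congrArg Subtype.val hw
  show Comod.coact (k := k) (A := A) b ∈ tens A _
  rw [← hw']
  clear hw hw'
  induction w with
  | zero => simp
  | add p q hp hq => rw [map_add, map_add]; exact add_mem hp hq
  | tmul u c =>
    induction u with
    | zero => simp
    | add p q hp hq => rw [TensorProduct.add_tmul, map_add, map_add]; exact add_mem hp hq
    | tmul s a =>
      rw [show Θ (Algebra.TensorProduct.map (AlgHom.id (S ⊗[k] A) (S ⊗[k] A)) (integralClosure S R).val ((s ⊗ₜ[k] a) ⊗ₜ[S] c)) =
        (algebraMap S R s * (c : R)) ⊗ₜ[k] a by simp [Θ, lA, inR, ι]]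
      exact tmul_mem_tens ((integralClosure S R).mul_mem ((integralClosure S R).algebraMap_mem s) c.2) _

theorem exists_factorization [Algebra.FiniteType k S] [Algebra.FiniteType k R] [Algebra.QuasiFinite S R] :
    ∃ (B : Subalgebra k R) (hB : IsSubcomod (k := k) (A := A) (Subalgebra.toSubmodule B)),
      Algebra.FiniteType k B ∧ ∃ ψ : S →ₐ[k] B, (∀ s, (ψ s : R) = algebraMap S R s) ∧ ψ.toRingHom.Finite ∧
        IsOpenImmersion (Spec.map (CommRingCat.ofHom B.val.toRingHom)) := by
  classical
  haveI : Algebra.FiniteType S R := Algebra.FiniteType.of_restrictScalars_finiteType k S R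
  have hloc : ∀ p : PrimeSpectrum R, ∃ S' : Subalgebra S R, S'.toSubmodule.FG ∧ ∃ r : S',
      r.1 ∉ p.asIdeal ∧ Function.Bijective (Localization.awayMap S'.val.toRingHom r) := fun p =>
    Algebra.QuasiFiniteAt.exists_fg_and_exists_notMem_and_awayMap_bijective p.asIdeal
  choose S' hfg r hrp hbij using hloc
  have hspan : Ideal.span (Set.range fun p => (r p : R)) = ⊤ := by
    by_contra hne
    obtain ⟨M, hM, hle⟩ := Ideal.exists_le_maximal _ hne
    exact hrp ⟨M, hM.isPrime⟩ (hle (Ideal.subset_span ⟨_, rfl⟩))
  obtain ⟨T, hT, hTspan⟩ := Submodule.mem_span_finite_of_mem_span (hspan ▸ Submodule.mem_top : (1 : R) ∈ _)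
  choose pt hpt using fun t : T => hT t.2
  choose gen hgen using hfg
  let G : Finset R := T.attach.biUnion fun t => gen (pt t)
  let C : Submodule k R := (integralClosure S R).toSubmodule.restrictScalars k
  have hC : IsSubcomod (k := k) (A := A) C := isSubcomod_integralClosure hequiv
  have hGC : ∀ g ∈ G, g ∈ C := by
    intro g hg
    obtain ⟨t, ht, hgt⟩ := Finset.mem_biUnion.1 hg
    have hmem : g ∈ (S' (pt t)).toSubmodule := hgen (pt t) ▸ Submodule.subset_span hgt
    exact IsIntegral.of_mem_of_fg (S' (pt t)) ⟨gen (pt t), hgen (pt t)⟩ g hmem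
  obtain ⟨N, hN, hNfin, hGN⟩ := Groth.Agent.FinGenH28.exists_finite_subcomod_finset (k := k) (A := A) G
  let V : Submodule k R := N ⊓ C
  have hV : IsSubcomod (k := k) (A := A) V := isSubcomod_inf hN hC
  haveI : Module.Finite k V := Module.Finite.of_injective (Submodule.inclusion inf_le_left) (Submodule.inclusion_injective _)
  obtain ⟨gV, hgV⟩ := (Module.Finite.iff_fg.1 ‹Module.Finite k V› : V.FG)
  let B : Subalgebra k R := Algebra.adjoin k (Set.range (algebraMap S R) ∪ (V : Set R))
  have hB : IsSubcomod (k := k) (A := A) (Subalgebra.toSubmodule B) := by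
    intro b hb
    show Comod.coact (k := k) (A := A) b ∈ tens A (Subalgebra.toSubmodule B)
    have hmul : Subalgebra.toSubmodule B * Subalgebra.toSubmodule B ≤ Subalgebra.toSubmodule B :=
      Submodule.mul_le.2 fun a ha b hb => B.mul_mem ha hb
    induction hb using Algebra.adjoin_induction with
    | mem x hx =>
      rcases hx with ⟨s, rfl⟩ | hx
      · rw [hequiv]
        generalize Comod.coact (k := k) (A := A) s = d
        induction d with
        | zero => simp
        | add p q hp hq => rw [map_add]; exact add_mem hp hq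
        | tmul s' a => exact tmul_mem_tens (show algebraMap S R s' ∈ B from Algebra.subset_adjoin (Or.inl ⟨s', rfl⟩)) _
      · exact tens_mono (fun v hv => (show v ∈ B from Algebra.subset_adjoin (Or.inr hv))) (hV x hx)
    | algebraMap c =>
      rw [show Comod.coact (k := k) (A := A) (algebraMap k R c) = algebraMap k R c ⊗ₜ[k] (1 : A) from
        (GLin.invariants k A R).algebraMap_mem c]
      exact tmul_mem_tens (B.algebraMap_mem c) _
    | add a b _ _ ha hb => rw [map_add]; exact add_mem ha hb
    | mul a b _ _ ha hb =>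
      rw [GLin.IsCoactAlg.coact_mul]
      exact tens_mono hmul (Groth.Agent.FinGenH28.tens_mul ha hb)
  let ψ : S →ₐ[k] B := (IsScalarTower.toAlgHom k S R).codRestrict B fun s => Algebra.subset_adjoin (Or.inl ⟨s, rfl⟩)
  let BS : Subalgebra S R := Algebra.adjoin S (gV : Set R)
  have hBS : ∀ x, x ∈ B ↔ x ∈ BS := by
    intro x
    constructor
    · intro hx
      refine (Algebra.adjoin_le ?_ : B ≤ BS.restrictScalars k) hx
      rintro y (⟨s, rfl⟩ | hy)
      · exact BS.algebraMap_mem s
      · have hle : Submodule.span k (gV : Set R) ≤ (Subalgebra.toSubmodule BS).restrictScalars k :=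
          Submodule.span_le.2 Algebra.subset_adjoin
        exact hle (hgV.symm ▸ hy)
    · intro hx
      induction hx using Algebra.adjoin_induction with
      | mem y hy => exact Algebra.subset_adjoin (Or.inr (hgV ▸ Submodule.subset_span hy))
      | algebraMap s => exact Algebra.subset_adjoin (Or.inl ⟨s, rfl⟩)
      | add a b _ _ ha hb => exact B.add_mem ha hb
      | mul a b _ _ ha hb => exact B.mul_mem ha hb
  have hBSfg : BS.toSubmodule.FG := fg_adjoin_of_finite gV.finite_toSet fun y hy =>
    (hgV ▸ Submodule.subset_span hy : y ∈ V).2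
  have hψfin : ψ.toRingHom.Finite := by
    letI : Algebra S B := ψ.toRingHom.toAlgebra
    let e : BS ≃ₗ[S] B :=
      { toFun := fun y => ⟨y.1, (hBS _).2 y.2⟩
        invFun := fun y => ⟨y.1, (hBS _).1 y.2⟩
        map_add' := fun _ _ => rfl
        map_smul' := fun s y => Subtype.ext (Algebra.smul_def s (y : R))
        left_inv := fun _ => rfl
        right_inv := fun _ => rfl }
    haveI : Module.Finite S BS := Module.Finite.iff_fg.2 hBSfg
    exact RingHom.finite_algebraMap.2 (Module.Finite.equiv e)
  refine ⟨B, hB, ?_, ψ, fun s => rfl, hψfin, ?_⟩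
  · have h1 : (algebraMap k S).FiniteType := RingHom.finiteType_algebraMap.2 inferInstance
    have h2 := hψfin.finiteType.comp h1
    rw [AlgHom.toRingHom_eq_coe, AlgHom.comp_algebraMap] at h2
    exact RingHom.finiteType_algebraMap.1 h2
  -- the open immersion
  have hle : ∀ t : T, ∀ y ∈ S' (pt t), y ∈ B := by
    intro t y hy
    rw [hBS]
    have h : (S' (pt t)).toSubmodule ≤ BS.toSubmodule := by
      rw [← hgen (pt t)]
      refine Submodule.span_le.2 fun g hg => (hBS g).1 (Algebra.subset_adjoin (Or.inr ⟨?_, ?_⟩))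
      · exact hGN (Finset.mem_biUnion.2 ⟨t, Finset.mem_attach _ t, hg⟩)
      · exact hGC g (Finset.mem_biUnion.2 ⟨t, Finset.mem_attach _ t, hg⟩)
    exact h hy
  let b : T → B := fun t => ⟨(r (pt t) : R), hle t _ (r (pt t)).2⟩
  have hloc : ∀ t : T, @IsLocalization.Away B _ (b t) (Localization.Away (t.1 : R)) _
      ((algebraMap R (Localization.Away (t.1 : R))).comp B.val.toRingHom).toAlgebra := by
    intro t
    letI : Algebra B (Localization.Away (t.1 : R)) :=
      ((algebraMap R (Localization.Away (t.1 : R))).comp B.val.toRingHom).toAlgebra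
    have htr : (b t : R) = t.1 := hpt t
    refine (isLocalization_iff _ _).2 ⟨fun y => ?_, fun z => ?_, fun {p q} hpq => ?_⟩
    · obtain ⟨_, n, rfl⟩ := y
      show IsUnit (algebraMap R (Localization.Away (t.1 : R)) ((b t ^ n : B) : R))
      rw [SubmonoidClass.coe_pow, htr, map_pow]
      exact (IsLocalization.Away.algebraMap_isUnit _).pow n
    · obtain ⟨n, x, hx⟩ := IsLocalization.Away.surj (t.1 : R) z
      obtain ⟨y, m, hy⟩ := Localization.awayMap_surjective_iff.1 (hbij (pt t)).2 x
      refine ⟨(⟨y, hle t _ y.2⟩, ⟨b t ^ (n + m), n + m, rfl⟩), ?_⟩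
      show z * algebraMap R _ ((b t ^ (n + m) : B) : R) = algebraMap R _ (y : R)
      rw [SubmonoidClass.coe_pow, htr, pow_add, map_mul, ← mul_assoc, map_pow, hx, ← map_mul,
        show (y : R) = (r (pt t) : R) ^ m * x from hy, show (r (pt t) : R) = t.1 from hpt t, mul_comm]
    · obtain ⟨⟨_, n, rfl⟩, hn⟩ := (IsLocalization.eq_iff_exists (Submonoid.powers (t.1 : R)) _).1
        (show algebraMap R (Localization.Away (t.1 : R)) (p : R) = algebraMap R _ (q : R) from hpq)
      refine ⟨⟨b t ^ n, n, rfl⟩, Subtype.ext ?_⟩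
      show ((b t ^ n : B) : R) * p = ((b t ^ n : B) : R) * q
      rw [SubmonoidClass.coe_pow, htr]
      exact hn
  have hspanT : Ideal.span (Set.range fun t : T => (t.1 : R)) = ⊤ :=
    (Ideal.eq_top_iff_one _).2 (by
      refine Ideal.span_mono (s := (T : Set R)) ?_ hTspan; intro x hx; exact ⟨⟨x, hx⟩, rfl⟩)
  refine IsOpenImmersion.of_openCover_source _
    (Scheme.affineOpenCoverOfSpanRangeEqTop (R := CommRingCat.of R) (fun t : T => (t.1 : R)) hspanT).openCover ?_ fun t => ?_
  · intro Q Q' h
    have hQ : ∀ P : PrimeSpectrum R, ∃ t : T, (t.1 : R) ∉ P.asIdeal := by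
      intro P
      by_contra! hall
      exact P.isPrime.ne_top (top_le_iff.1 (hspanT ▸ Ideal.span_le.2 (Set.range_subset_iff.2 hall)))
    obtain ⟨t, ht⟩ := hQ Q
    letI : Algebra B (Localization.Away (t.1 : R)) :=
      ((algebraMap R (Localization.Away (t.1 : R))).comp B.val.toRingHom).toAlgebra
    haveI := hloc t
    have hcom : Q.asIdeal.comap B.val.toRingHom = Q'.asIdeal.comap B.val.toRingHom := congrArg PrimeSpectrum.asIdeal h
    have ht' : (t.1 : R) ∉ Q'.asIdeal := fun hmem => ht (by
      have : b t ∈ Q'.asIdeal.comap B.val.toRingHom := by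
        show (b t : R) ∈ Q'.asIdeal
        rw [show (b t : R) = t.1 from hpt t]; exact hmem
      rw [← hcom] at this
      have h' : (b t : R) ∈ Q.asIdeal := this
      rwa [show (b t : R) = t.1 from hpt t] at h')
    obtain ⟨QL, hQL⟩ : Q ∈ Set.range (PrimeSpectrum.comap (algebraMap R (Localization.Away (t.1 : R)))) := by
      rw [PrimeSpectrum.localization_away_comap_range _ (t.1 : R)]; exact ht
    obtain ⟨QL', hQL'⟩ : Q' ∈ Set.range (PrimeSpectrum.comap (algebraMap R (Localization.Away (t.1 : R)))) := by
      rw [PrimeSpectrum.localization_away_comap_range _ (t.1 : R)]; exact ht'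
    have heq : QL = QL' := PrimeSpectrum.localization_comap_injective (Localization.Away (t.1 : R))
      (Submonoid.powers (b t)) (by
        show PrimeSpectrum.comap ((algebraMap R (Localization.Away (t.1 : R))).comp B.val.toRingHom) QL =
          PrimeSpectrum.comap ((algebraMap R (Localization.Away (t.1 : R))).comp B.val.toRingHom) QL'
        rw [PrimeSpectrum.comap_comp_apply, PrimeSpectrum.comap_comp_apply, hQL, hQL']
        exact h)
    rw [← hQL, ← hQL', heq]
  · letI : Algebra B (Localization.Away (t.1 : R)) :=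
      ((algebraMap R (Localization.Away (t.1 : R))).comp B.val.toRingHom).toAlgebra
    haveI := hloc t
    have h : IsOpenImmersion (Spec.map (CommRingCat.ofHom (algebraMap B (Localization.Away (t.1 : R))))) :=
      IsOpenImmersion.of_isLocalization (b t)
    rw [RingHom.algebraMap_toAlgebra, CommRingCat.ofHom_comp, Spec.map_comp] at h
    exact h

end Groth.Agent.EqZMT28
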