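import Groth.Agent.Lib.EtQuotH28.Tensor
import Groth.Agent.Lib.HopfMod.Ideal
import Groth.Agent.Lib.FreeOrbH28.Dim
import Mathlib.RingTheory.Localization.Away.Basic

/-!
# Polynomial and localised comodule algebras; stability is seen on points
-/

open TensorProduct HopfRep Groth.Agent.Comodule

universe u v

namespace Groth.Agent.EqZMT28

variable {k : Type u} [Field k] {A : Type u} [CommRing A] [HopfAlgebra k A]

section poly

variable {ι : Type u} {V : Type u} [AddCommGroup V] [Module k V] [Comod k A V] (b : Module.Basis ι k V)

/-- The coordinate functions as a linear map. -/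
noncomputable def toPoly : V →ₗ[k] MvPolynomial ι k := b.constr k MvPolynomial.X

@[simp] lemma toPoly_basis (i : ι) : toPoly b (b i) = MvPolynomial.X i := b.constr_basis k _ i

/-- The coaction on the symmetric algebra. -/
noncomputable def polyCoact : MvPolynomial ι k →ₐ[k] MvPolynomial ι k ⊗[k] A :=
  MvPolynomial.aeval fun i => (toPoly b).rTensor A (Comod.coact (k := k) (A := A) (b i))

lemma polyCoact_toPoly (v : V) :
    polyCoact (A := A) b (toPoly b v) = (toPoly b).rTensor A (Comod.coact (k := k) (A := A) v) := by
  have : (polyCoact (A := A) b).toLinearMap ∘ₗ toPoly b = (toPoly b).rTensor A ∘ₗ Comod.coact (k := k) (A := A) :=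
    b.ext fun i => by simp [polyCoact]
  exact LinearMap.congr_fun this v

/-- The symmetric algebra as a comodule. -/
@[reducible] noncomputable def polyComod : Comod k A (MvPolynomial ι k) where
  coact := (polyCoact (A := A) b).toLinearMap
  coassoc := by
    have key : (Algebra.TensorProduct.assoc k k k (MvPolynomial ι k) A A).toAlgHom.comp
        ((Algebra.TensorProduct.map (polyCoact (A := A) b) (AlgHom.id k A)).comp (polyCoact (A := A) b)) =
        (Algebra.TensorProduct.map (AlgHom.id k (MvPolynomial ι k)) (Bialgebra.comulAlgHom k A)).comp (polyCoact (A := A) b) := by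
      refine MvPolynomial.algHom_ext fun i => ?_
      rw [← toPoly_basis b i]
      exact EtQuotH28.coassoc_natural (toPoly b) (polyCoact (A := A) b).toLinearMap (polyCoact_toPoly b) (b i)
    exact LinearMap.ext fun z => DFunLike.congr_fun key z
  counit_comp := by
    have key : (Algebra.TensorProduct.map (AlgHom.id k (MvPolynomial ι k)) (Bialgebra.counitAlgHom k A)).comp (polyCoact (A := A) b) =
        Algebra.TensorProduct.includeLeft := by
      refine MvPolynomial.algHom_ext fun i => ?_
      rw [← toPoly_basis b i]
      exact EtQuotH28.counit_natural (toPoly b) (polyCoact (A := A) b).toLinearMap (polyCoact_toPoly b) (b i)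
    exact LinearMap.ext fun z => DFunLike.congr_fun key z

lemma poly_isCoactAlg : @GLin.IsCoactAlg k _ A _ _ (MvPolynomial ι k) _ _ (polyComod b) :=
  @GLin.IsCoactAlg.mk k _ A _ _ (MvPolynomial ι k) _ _ (polyComod b) (map_one (polyCoact b)) (map_mul (polyCoact b))

lemma isComodHom_toPoly : letI := polyComod (A := A) b; Hoch.IsComodHom A (toPoly b) :=
  LinearMap.ext fun v => polyCoact_toPoly b v

lemma isComodHom_aeval {R : Type u} [CommRing R] [Algebra k R] [Comod k A R] [GLin.IsCoactAlg k A R]
    (f : V →ₗ[k] R) (hf : Hoch.IsComodHom A f) :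
    letI := polyComod (A := A) b; Hoch.IsComodHom A (MvPolynomial.aeval (R := k) (fun i => f (b i))).toLinearMap := by
  letI := polyComod (A := A) b
  let p : MvPolynomial ι k →ₐ[k] R := MvPolynomial.aeval fun i => f (b i)
  have hp : p.toLinearMap ∘ₗ toPoly b = f := b.ext fun i => by simp [p]
  have key : (GLin.coactAlgHom k A R).comp p = (Algebra.TensorProduct.map p (AlgHom.id k A)).comp (polyCoact b) := by
    refine MvPolynomial.algHom_ext fun i => ?_
    rw [← toPoly_basis b i]
    show Comod.coact (k := k) (A := A) (p (toPoly b (b i))) = p.toLinearMap.rTensor A (polyCoact b (toPoly b (b i)))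
    rw [polyCoact_toPoly, ← LinearMap.rTensor_comp_apply, hp, show p (toPoly b (b i)) = f (b i) from LinearMap.congr_fun hp (b i)]
    exact comodHom_apply hf (b i)
  exact LinearMap.ext fun z => DFunLike.congr_fun key z

end poly

section loc

variable {R : Type u} [CommRing R] [Algebra k R] [Comod k A R] [GLin.IsCoactAlg k A R]
  {f : R} (hf : f ∈ GLin.invariants k A R) (L : Type u) [CommRing L] [Algebra k L] [Algebra R L]
  [IsScalarTower k R L] [IsLocalization.Away f L]

/-- The coaction on a localisation at an invariant. -/
noncomputable def locCoact : L →ₐ[k] L ⊗[k] A :=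
  IsLocalization.liftAlgHom (M := Submonoid.powers f)
    (f := (Algebra.TensorProduct.map (IsScalarTower.toAlgHom k R L) (AlgHom.id k A)).comp (GLin.coactAlgHom k A R))
    (fun y => by
      obtain ⟨_, n, rfl⟩ := y
      show IsUnit (Algebra.TensorProduct.map (IsScalarTower.toAlgHom k R L) (AlgHom.id k A)
        (GLin.coactAlgHom k A R (f ^ n)))
      rw [map_pow, map_pow, GLin.coactAlgHom_apply, show Comod.coact (k := k) (A := A) f = f ⊗ₜ[k] (1 : A) from hf,
        Algebra.TensorProduct.map_tmul]
      exact ((IsLocalization.Away.algebraMap_isUnit f).map (Algebra.TensorProduct.includeLeftRingHom (R := k) (B := A))).pow n)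

lemma locCoact_algebraMap (r : R) : locCoact hf L (algebraMap R L r) =
    (IsScalarTower.toAlgHom k R L).toLinearMap.rTensor A (Comod.coact (k := k) (A := A) r) := by
  simp only [locCoact, IsLocalization.liftAlgHom_apply, IsLocalization.lift_eq]
  rfl

/-- The localised comodule. -/
@[reducible] noncomputable def locComod : Comod k A L where
  coact := (locCoact hf L).toLinearMap
  coassoc := by
    have key : (Algebra.TensorProduct.assoc k k k L A A).toAlgHom.comp
        ((Algebra.TensorProduct.map (locCoact hf L) (AlgHom.id k A)).comp (locCoact hf L)) =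
        (Algebra.TensorProduct.map (AlgHom.id k L) (Bialgebra.comulAlgHom k A)).comp (locCoact hf L) :=
      AlgHom.coe_ringHom_injective (IsLocalization.ringHom_ext (Submonoid.powers f) (RingHom.ext fun r =>
        EtQuotH28.coassoc_natural (IsScalarTower.toAlgHom k R L).toLinearMap (locCoact hf L).toLinearMap
          (locCoact_algebraMap hf L) r))
    exact LinearMap.ext fun z => DFunLike.congr_fun key z
  counit_comp := by
    have key : (Algebra.TensorProduct.map (AlgHom.id k L) (Bialgebra.counitAlgHom k A)).comp (locCoact hf L) =
        Algebra.TensorProduct.includeLeft :=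
      AlgHom.coe_ringHom_injective (IsLocalization.ringHom_ext (Submonoid.powers f) (RingHom.ext fun r =>
        EtQuotH28.counit_natural (IsScalarTower.toAlgHom k R L).toLinearMap (locCoact hf L).toLinearMap
          (locCoact_algebraMap hf L) r))
    exact LinearMap.ext fun z => DFunLike.congr_fun key z

lemma loc_isCoactAlg : @GLin.IsCoactAlg k _ A _ _ L _ _ (locComod hf L) :=
  @GLin.IsCoactAlg.mk k _ A _ _ L _ _ (locComod hf L) (map_one (locCoact hf L)) (map_mul (locCoact hf L))

end loc

section points

variable [IsAlgClosed k] [CharZero k] [Algebra.FiniteType k A]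

/-- A subspace stable under the rational points is a subcomodule. -/
theorem isSubcomod_of_act_mem {V : Type u} [AddCommGroup V] [Module k V] [Comod k A V] (N : Submodule k V)
    (h : ∀ (g : A →ₐ[k] k), ∀ v ∈ N, Comod.act k A V g v ∈ N) : IsSubcomod (k := k) (A := A) N := by
  intro v hv
  show Comod.coact (k := k) (A := A) v ∈ tens A N
  have hker : Comod.coact (k := k) (A := A) v ∈ tens A (LinearMap.ker N.mkQ) := by
    refine (mem_tens_ker_iff N.mkQ _).2 ?_
    let c := Module.Free.chooseBasis k (V ⧸ N)
    set z := N.mkQ.rTensor A (Comod.coact (k := k) (A := A) v) with hz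
    apply (TensorProduct.equivFinsuppOfBasisLeft (N := A) c).injective
    rw [map_zero]
    ext i
    refine FreeOrbH28.ext_points (k := k) fun g => ?_
    rw [Finsupp.zero_apply, map_zero]
    have e : ∀ d : V ⊗[k] A, g (TensorProduct.equivFinsuppOfBasisLeft (N := A) c (N.mkQ.rTensor A d) i) =
        c.coord i (N.mkQ (TensorProduct.rid k V (g.toLinearMap.lTensor V d))) := by
      intro d
      induction d with
      | zero => simp
      | add p q hp hq => simp only [map_add, Finsupp.add_apply, hp, hq]
      | tmul w a => simp [mul_comm]
    rw [hz, e, show N.mkQ (TensorProduct.rid k V (g.toLinearMap.lTensor V (Comod.coact (k := k) (A := A) v))) = 0 from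
      (Submodule.Quotient.mk_eq_zero N).2 (h g v hv), map_zero]
  rwa [Submodule.ker_mkQ] at hker

end points

end Groth.Agent.EqZMT28
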