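import Groth.Agent.Lib.EqZMT28.Basic
import Groth.Agent.Lib.EqZMT28.Poly
import Groth.Agent.Lib.EtQuotH28.Nbhd
import Mathlib.RingTheory.Localization.LocalizationLocalization
import Mathlib.RingTheory.Polynomial.UniqueFactorization
import Mathlib.RingTheory.IntegralClosure.IntegrallyClosed
import Mathlib.RingTheory.RingHom.QuasiFinite

/-!
# Quasi-finite equivariant maps extend to normal varieties
-/

open TensorProduct HopfRep WithConv Groth.Agent.Comodule

universe u

namespace Groth.Agent.EqZMT28

set_option linter.unusedSectionVars false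

section qf

variable {S' R'' R : Type u} [CommRing S'] [CommRing R''] [CommRing R] [Algebra S' R''] [Algebra S' R]

/-- Quasi-finite at the primes of a closed subscheme cut out by functions from the base. -/
lemma quasiFiniteAt_of_quotient [Algebra.FiniteType S' R''] [Algebra.QuasiFinite S' R] (p : R'' →ₐ[S'] R)
    (hp : Function.Surjective p) (hK : RingHom.ker p ≤ ((RingHom.ker p).comap (algebraMap S' R'')).map (algebraMap S' R''))
    (P : Ideal R'') [P.IsPrime] (hP : RingHom.ker p ≤ P) : Algebra.QuasiFiniteAt S' P := by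
  let p₀ := P.under S'
  haveI : P.LiesOver p₀ := ⟨rfl⟩
  let e : (R'' ⧸ RingHom.ker p) ≃ₐ[S'] R := Ideal.quotientKerAlgEquivOfSurjective hp
  let g₀ : R'' →ₐ[S'] p₀.ResidueField ⊗[S'] R'' := Algebra.TensorProduct.includeRight
  have hg₀ : RingHom.ker p ≤ RingHom.ker g₀ := by
    refine hK.trans (Ideal.map_le_iff_le_comap.2 fun s hs => ?_)
    show (1 : p₀.ResidueField) ⊗ₜ[S'] algebraMap S' R'' s = 0
    rw [← Algebra.TensorProduct.tmul_one_eq_one_tmul,
      Ideal.algebraMap_residueField_eq_zero.2 (show s ∈ p₀ from hP hs), TensorProduct.zero_tmul]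
  let g : R →ₐ[S'] p₀.ResidueField ⊗[S'] R'' := (Ideal.Quotient.liftₐ _ g₀ hg₀).comp e.symm.toAlgHom
  have hg : ∀ r, g (p r) = g₀ r := fun r => by
    show Ideal.Quotient.liftₐ _ g₀ hg₀ (e.symm (p r)) = _
    rw [show p r = e (Ideal.Quotient.mk _ r) from rfl, AlgEquiv.symm_apply_apply]
    rfl
  let Φ : p₀.ResidueField ⊗[S'] R →ₐ[p₀.ResidueField] p₀.ResidueField ⊗[S'] R'' :=
    Algebra.TensorProduct.lift (Algebra.ofId _ _) g fun _ _ => Commute.all _ _
  have hΦ : Function.Surjective Φ := by
    intro z
    induction z using TensorProduct.induction_on with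
    | zero => exact ⟨0, map_zero Φ⟩
    | add a b ha hb =>
      obtain ⟨u, rfl⟩ := ha
      obtain ⟨v, rfl⟩ := hb
      exact ⟨u + v, map_add Φ u v⟩
    | tmul c r =>
      refine ⟨c ⊗ₜ[S'] p r, ?_⟩
      simp only [Φ, Algebra.TensorProduct.lift_tmul, hg, g₀, Algebra.ofId_apply, Algebra.TensorProduct.includeRight_apply,
        Algebra.TensorProduct.algebraMap_apply, Algebra.algebraMap_self, RingHom.id_apply,
        Algebra.TensorProduct.tmul_mul_tmul, mul_one, one_mul]
  haveI : Module.Finite p₀.ResidueField (p₀.Fiber R) := inferInstance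
  haveI : Module.Finite p₀.ResidueField (p₀.Fiber R'') := Module.Finite.of_surjective Φ.toLinearMap hΦ
  let Q : PrimeSpectrum (p₀.Fiber R'') := PrimeSpectrum.preimageHomeomorphFiber S' R'' ⟨p₀, inferInstance⟩
    ⟨⟨P, inferInstance⟩, rfl⟩
  exact Algebra.QuasiFiniteAt.of_quasiFiniteAt_residueField p₀ P Q.asIdeal
    congr($((PrimeSpectrum.preimageHomeomorphFiber S' R'' ⟨p₀, inferInstance⟩).symm_apply_apply
      ⟨⟨P, inferInstance⟩, rfl⟩).1.asIdeal)

/-- The quasi-finite locus is open, concretely. -/
lemma exists_quasiFinite_away [Algebra.FiniteType S' R''] (P : Ideal R'') [P.IsPrime] [Algebra.QuasiFiniteAt S' P] :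
    ∃ r : R'', r ∉ P ∧ Algebra.QuasiFinite S' (Localization.Away r) := by
  obtain ⟨T, hT, r, hrP, hbij⟩ := Algebra.QuasiFiniteAt.exists_fg_and_exists_notMem_and_awayMap_bijective (R := S') P
  haveI : Module.Finite S' T := Module.Finite.iff_fg.2 hT
  haveI : Algebra.QuasiFinite S' (Localization.Away r) := .trans _ T _
  exact ⟨r, hrP, .of_surjective_algHom (Localization.awayMapₐ T.val r) hbij.2⟩

/-- The functions with quasi-finite non-vanishing locus. -/
def qfSet (S' R'' : Type u) [CommRing S'] [CommRing R''] [Algebra S' R''] : Set R'' :=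
  {r | Algebra.QuasiFinite S' (Localization.Away r)}

/-- Quasi-finite everywhere is quasi-finite. -/
lemma quasiFinite_of_forall [Algebra.FiniteType S' R''] [IsNoetherianRing R'']
    (h : ∀ (P : Ideal R'') (_ : P.IsPrime), Algebra.QuasiFiniteAt S' P) : Algebra.QuasiFinite S' R'' := by
  rw [Algebra.QuasiFinite.iff_finite_primesOver]
  intro I _
  refine (I.map (algebraMap S' R'')).finite_minimalPrimes_of_isNoetherianRing.subset fun P hP => ?_
  obtain ⟨hPp, hPo⟩ := hP
  haveI := hPp
  have hcomap : P.under S' = I := (Ideal.LiesOver.over (p := I) (P := P)).symm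
  refine ⟨⟨hPp, Ideal.map_le_iff_le_comap.2 hcomap.ge⟩, fun Q hQ hQP => ?_⟩
  haveI := hQ.1
  haveI := h P hPp
  have hQI : Q.under S' = P.under S' := le_antisymm (Ideal.comap_mono hQP) (hcomap.le.trans (Ideal.map_le_iff_le_comap.1 hQ.2))
  exact (Algebra.QuasiFiniteAt.eq_of_le_of_under_eq hQP hQI).ge

lemma mem_qfSet_map (τ : R'' ≃+* R'') (τS : S' ≃+* S') (hc : ∀ y, τ (algebraMap S' R'' y) = algebraMap S' R'' (τS y))
    {r : R''} (hr : r ∈ qfSet S' R'') : τ r ∈ qfSet S' R'' := by
  haveI : Algebra.QuasiFinite S' (Localization.Away r) := hr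
  have hmap : (Submonoid.powers r).map ((τ : R'' ≃+* R'') : R'' ≃* R'').toMonoidHom = Submonoid.powers (τ r) := by
    rw [Submonoid.map_powers]; rfl
  let eL := IsLocalization.ringEquivOfRingEquiv (Localization.Away r) (Localization.Away (τ r)) τ hmap
  show Algebra.QuasiFinite S' (Localization.Away (τ r))
  rw [← RingHom.quasiFinite_algebraMap]
  have h0 : (algebraMap S' (Localization.Away r)).QuasiFinite := RingHom.quasiFinite_algebraMap.2 hr
  have hcomp : algebraMap S' (Localization.Away (τ r)) =
      (eL.toRingHom.comp (algebraMap S' (Localization.Away r))).comp τS.symm.toRingHom := by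
    refine RingHom.ext fun y => ?_
    show algebraMap S' (Localization.Away (τ r)) y = eL (algebraMap S' (Localization.Away r) (τS.symm y))
    rw [IsScalarTower.algebraMap_apply S' R'' (Localization.Away (τ r)),
      IsScalarTower.algebraMap_apply S' R'' (Localization.Away r)]
    refine Eq.trans ?_ (IsLocalization.ringEquivOfRingEquiv_eq (S := Localization.Away r)
      (Q := Localization.Away (τ r)) hmap (algebraMap S' R'' (τS.symm y))).symm
    show algebraMap R'' (Localization.Away (τ r)) (algebraMap S' R'' y) =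
      algebraMap R'' _ (τ (algebraMap S' R'' (τS.symm y)))
    rw [hc, RingEquiv.apply_symm_apply]
  rw [hcomp]
  exact RingHom.QuasiFinite.comp (RingHom.QuasiFinite.comp
    (RingHom.QuasiFinite.of_finite (RingHom.Finite.of_surjective _ eL.surjective)) h0)
    (RingHom.QuasiFinite.of_finite (RingHom.Finite.of_surjective _ τS.symm.surjective))

lemma quasiFiniteAt_localization {L : Type u} [CommRing L] [Algebra R'' L] [Algebra S' L] [IsScalarTower S' R'' L]
    (M : Submonoid R'') [IsLocalization M L] (P : Ideal L) [P.IsPrime] {r : R''} (hr : r ∈ qfSet S' R'')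
    (hrP : r ∉ P.comap (algebraMap R'' L)) : Algebra.QuasiFiniteAt S' P := by
  haveI : Algebra.QuasiFinite S' (Localization.Away r) := hr
  let P₀ := P.comap (algebraMap R'' L)
  haveI : IsLocalization.AtPrime (Localization.AtPrime P) P₀ :=
    IsLocalization.isLocalization_isLocalization_atPrime_isLocalization M (Localization.AtPrime P) P
  let g : Localization.Away r →ₐ[R''] Localization.AtPrime P₀ :=
    IsLocalization.Away.liftAlgHom r (f := Algebra.ofId _ _) <|
      IsLocalization.map_units (M := P₀.primeCompl) (Localization.AtPrime P₀) ⟨r, hrP⟩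
  have hq0 : Algebra.QuasiFinite S' (Localization.AtPrime P₀) := by
    refine .of_forall_exists_mul_mem_range (g.restrictScalars S') fun x ↦ ?_
    obtain ⟨x, ⟨s, hs⟩, rfl⟩ := IsLocalization.exists_mk'_eq P₀.primeCompl x
    exact ⟨algebraMap _ _ s, by simpa using IsLocalization.map_units _ ⟨s, hs⟩,
      algebraMap _ _ x, by simp⟩
  exact (Algebra.QuasiFinite.iff_of_algEquiv
    ((IsLocalization.algEquiv P₀.primeCompl (Localization.AtPrime P₀) (Localization.AtPrime P)).restrictScalars S')).1 hq0

end qf

variable {k : Type u} [Field k] [IsAlgClosed k] [CharZero k] {A : Type u} [CommRing A] [HopfAlgebra k A]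
  [Algebra.FiniteType k A]
  {S : Type u} [CommRing S] [Algebra k S] [Algebra.FiniteType k S] [Comod k A S] [GLin.IsCoactAlg k A S]
  {R : Type u} [CommRing R] [Algebra k R] [Algebra.FiniteType k R] [Comod k A R] [GLin.IsCoactAlg k A R]
  [Algebra S R] [IsScalarTower k S R] [Algebra.QuasiFinite S R]

set_option maxHeartbeats 1000000 in
theorem exists_thickening [Nontrivial R] (hG : IsLinearlyReductive k A)
    (hinj : Function.Injective (algebraMap S R))
    (hequiv : ∀ s : S, Comod.coact (k := k) (A := A) (algebraMap S R s) =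
      Algebra.TensorProduct.map (IsScalarTower.toAlgHom k S R) (AlgHom.id k A) (Comod.coact (k := k) (A := A) s)) :
    ∃ (R' : Type u) (_ : CommRing R') (_ : IsDomain R') (_ : IsIntegrallyClosed R') (_ : Algebra k R')
      (_ : Comod k A R') (_ : GLin.IsCoactAlg k A R')
      (S' : Type u) (_ : CommRing S') (_ : IsDomain S') (_ : Algebra k S')
      (_ : Comod k A S') (_ : GLin.IsCoactAlg k A S'),
      Algebra.FiniteType k R' ∧ Algebra.FiniteType k S' ∧
      ∃ (pR : R' →ₐ[k] R) (pS : S' →ₐ[k] S) (φ' : S' →ₐ[k] R'),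
        Function.Surjective pR ∧ Function.Surjective pS ∧ Function.Injective φ' ∧ φ'.toRingHom.QuasiFinite ∧
        Hoch.IsComodHom A pR.toLinearMap ∧ Hoch.IsComodHom A pS.toLinearMap ∧ Hoch.IsComodHom A φ'.toLinearMap ∧
        pR.comp φ' = (IsScalarTower.toAlgHom k S R).comp pS := by
  classical
  let ι₀ := (IsScalarTower.toAlgHom k S R).toLinearMap
  have hι₀ : Hoch.IsComodHom A ι₀ := EtQuotH28.isComodHom_algebraMap hequiv
  -- generators
  obtain ⟨gS, hgS⟩ := (inferInstance : Algebra.FiniteType k S).out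
  obtain ⟨gR, hgR⟩ := (inferInstance : Algebra.FiniteType k R).out
  obtain ⟨NS, hNS, hNSfin, hgNS⟩ := Groth.Agent.FinGenH28.exists_finite_subcomod_finset (k := k) (A := A) gS
  obtain ⟨NR, hNR, hNRfin, hgNR⟩ := Groth.Agent.FinGenH28.exists_finite_subcomod_finset (k := k) (A := A) gR
  let V : Submodule k R := NR ⊔ NS.map ι₀
  have hV : IsSubcomod (k := k) (A := A) V := isSubcomod_sup hNR (isSubcomod_map hι₀ hNS)
  haveI : Module.Finite k V := inferInstance
  letI cV : Comod k A V := subComod V hV
  let b := Module.finBasis k V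
  let b' : Module.Basis (ULift.{u} (Fin (Module.finrank k V))) k V := b.reindex Equiv.ulift.symm
  let P0 := MvPolynomial (ULift.{u} (Fin (Module.finrank k V))) k
  letI cP : Comod k A P0 := polyComod b'
  haveI : GLin.IsCoactAlg k A P0 := poly_isCoactAlg b'
  let p : P0 →ₐ[k] R := MvPolynomial.aeval fun i => V.subtype (b' i)
  have hpc : Hoch.IsComodHom A p.toLinearMap := isComodHom_aeval b' V.subtype (isComodHom_subtype V hV)
  have hpt : ∀ v : V, p (toPoly b' v) = (v : R) := by
    intro v
    have : p.toLinearMap ∘ₗ toPoly b' = V.subtype := b'.ext fun i => by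
      rw [LinearMap.comp_apply, toPoly_basis b' i]
      exact MvPolynomial.aeval_X _ i
    exact LinearMap.congr_fun this v
  have hpsurj : Function.Surjective p := by
    rw [← AlgHom.range_eq_top, ← top_le_iff, ← hgR, Algebra.adjoin_le_iff]
    intro x hx
    exact ⟨toPoly b' ⟨x, Submodule.mem_sup_left (hgNR hx)⟩, hpt _⟩
  let K : Ideal P0 := RingHom.ker p
  have hKs : IsSubcomod (k := k) (A := A) (K.restrictScalars k) := isSubcomod_ker hpc
  obtain ⟨gK, hgK⟩ := (IsNoetherian.noetherian K : K.FG)
  obtain ⟨NK', hNK', hNKfin', hgNK⟩ := Groth.Agent.FinGenH28.exists_finite_subcomod_finset (k := k) (A := A) gK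
  let NK : Submodule k P0 := NK' ⊓ K.restrictScalars k
  have hNK : IsSubcomod (k := k) (A := A) NK := isSubcomod_inf hNK' hKs
  haveI : Module.Finite k NK := Module.Finite.of_injective (Submodule.inclusion inf_le_left) (Submodule.inclusion_injective _)
  let ν : NS →ₗ[k] V := (ι₀ ∘ₗ NS.subtype).codRestrict V fun s => Submodule.mem_sup_right ⟨s, s.2, rfl⟩
  let U : Submodule k P0 := NK ⊔ LinearMap.range (toPoly b' ∘ₗ ν)
  have hU : IsSubcomod (k := k) (A := A) U := by
    refine isSubcomod_sup hNK ?_
    rw [LinearMap.range_comp]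
    refine isSubcomod_map (isComodHom_toPoly b') ?_
    rintro v ⟨s, rfl⟩
    obtain ⟨d, hd⟩ := hNS (s : S) s.2
    show Comod.coact (k := k) (A := A) (ν s) ∈ tens A _
    refine ⟨ν.rangeRestrict.rTensor A d, rTensor_subtype_injective V ?_⟩
    rw [show V.subtype.rTensor A (Comod.coact (k := k) (A := A) (ν s)) = Comod.coact (k := k) (A := A) ((ν s : V) : R) from
      rTensor_coactRestrict V hV (ν s),
      show ((ν s : V) : R) = ι₀ (s : S) from rfl, comodHom_apply hι₀, ← hd]
    simp only [← LinearMap.rTensor_comp_apply]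
    rfl
  haveI : Module.Finite k U := inferInstance
  obtain ⟨gU, hgU⟩ := (Module.Finite.iff_fg.1 ‹Module.Finite k U› : U.FG)
  let S' : Subalgebra k P0 := Algebra.adjoin k (U : Set P0)
  have hS's : IsSubcomod (k := k) (A := A) (Subalgebra.toSubmodule S') := by
    intro y hy
    show Comod.coact (k := k) (A := A) y ∈ tens A (Subalgebra.toSubmodule S')
    induction hy using Algebra.adjoin_induction with
    | mem x hx => exact tens_mono (fun v hv => (show v ∈ S' from Algebra.subset_adjoin hv)) (hU x hx)
    | algebraMap c =>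
      rw [show Comod.coact (k := k) (A := A) (algebraMap k P0 c) = algebraMap k P0 c ⊗ₜ[k] (1 : A) from
        (GLin.invariants k A P0).algebraMap_mem c]
      exact tmul_mem_tens (S'.algebraMap_mem c) _
    | add a c _ _ ha hc => rw [map_add]; exact add_mem ha hc
    | mul a c _ _ ha hc =>
      rw [GLin.IsCoactAlg.coact_mul]
      exact tens_mono (Submodule.mul_le.2 fun a ha c hc => S'.mul_mem ha hc) (Groth.Agent.FinGenH28.tens_mul ha hc)
  have hS'le : ∀ y ∈ S', p y ∈ (IsScalarTower.toAlgHom k S R).range := by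
    intro y hy
    induction hy using Algebra.adjoin_induction with
    | mem x hx =>
      obtain ⟨a, ha, c, ⟨s, rfl⟩, rfl⟩ := Submodule.mem_sup.1 hx
      rw [map_add, show p a = 0 from ha.2, zero_add, LinearMap.comp_apply, hpt]
      exact ⟨s, rfl⟩
    | algebraMap c => rw [AlgHom.commutes]; exact Subalgebra.algebraMap_mem _ c
    | add a c _ _ ha hc => rw [map_add]; exact add_mem ha hc
    | mul a c _ _ ha hc => rw [map_mul]; exact mul_mem ha hc
  let eS : S ≃ₐ[k] (IsScalarTower.toAlgHom k S R).range := AlgEquiv.ofInjective _ hinj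
  let pS : S' →ₐ[k] S := eS.symm.toAlgHom.comp ((p.comp S'.val).codRestrict _ fun y => hS'le y.1 y.2)
  have hpS : ∀ y : S', algebraMap S R (pS y) = p y := fun y => by
    show ((eS (eS.symm _) : (IsScalarTower.toAlgHom k S R).range) : R) = p y
    rw [AlgEquiv.apply_symm_apply]
    rfl
  have hpSsurj : Function.Surjective pS := by
    rw [← AlgHom.range_eq_top, ← top_le_iff, ← hgS, Algebra.adjoin_le_iff]
    intro x hx
    refine ⟨⟨toPoly b' (ν ⟨x, hgNS hx⟩), Algebra.subset_adjoin (Submodule.mem_sup_right ⟨⟨x, hgNS hx⟩, rfl⟩)⟩, hinj ?_⟩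
    show algebraMap S R (pS _) = algebraMap S R x
    rw [hpS]
    exact hpt _
  -- quasi-finiteness along the closed subscheme
  letI algS : Algebra S' R := (p.comp S'.val).toRingHom.toAlgebra
  let p' : P0 →ₐ[S'] R := { p.toRingHom with commutes' := fun y => rfl }
  haveI : IsScalarTower k S' P0 := inferInstance
  haveI : Algebra.FiniteType S' P0 := Algebra.FiniteType.of_restrictScalars_finiteType k S' P0
  haveI : Algebra.QuasiFinite S' R := by
    letI : Algebra S' S := pS.toRingHom.toAlgebra
    haveI : IsScalarTower S' S R := IsScalarTower.of_algebraMap_eq fun y => (hpS y).symm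
    haveI : Module.Finite S' S := Module.Finite.of_surjective (Algebra.linearMap S' S) hpSsurj
    exact .trans S' S R
  have hKmap : RingHom.ker p' ≤ ((RingHom.ker p').comap (algebraMap S' P0)).map (algebraMap S' P0) := by
    show K ≤ _
    rw [← hgK]
    refine Submodule.span_le.2 fun x hx => ?_
    have hxU : x ∈ NK := ⟨hgNK hx, hgK ▸ Submodule.subset_span hx⟩
    have hxS' : x ∈ S' := Algebra.subset_adjoin (Submodule.mem_sup_left hxU)
    exact Ideal.mem_map_of_mem (algebraMap S' P0) (show (⟨x, hxS'⟩ : S') ∈ (RingHom.ker p').comap (algebraMap S' P0) from hxU.2)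
  -- the bad locus
  let G0 : Set P0 := qfSet S' P0
  let Bad : Set (Ideal P0) := {P | P.IsPrime ∧ ∀ r ∈ G0, r ∈ P}
  let F : Ideal P0 := sInf Bad
  have hFK : F ⊔ K = ⊤ := by
    by_contra hne
    obtain ⟨P, hP, hle⟩ := Ideal.exists_le_maximal _ hne
    haveI := hP
    haveI := quasiFiniteAt_of_quotient p' hpsurj hKmap P (le_sup_right.trans hle)
    obtain ⟨r, hr, hrq⟩ := exists_quasiFinite_away (S' := S') P
    have hrF : r ∈ F := Submodule.mem_sInf.2 fun P' hP' => hP'.2 r hrq
    exact hr (hle (Ideal.mem_sup_left hrF))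
  have hGact : ∀ (g : WithConv (A →ₐ[k] k)), ∀ r ∈ G0, EtQuotH28.actEquiv (k := k) g r ∈ G0 := by
    intro g r hr
    let τ : P0 ≃+* P0 := EtQuotH28.actEquiv (k := k) g
    have hτ : ∀ y : S', τ (y : P0) ∈ S' := fun y => (HopfMod.mem_tens_iff _ _).1 (hS's y.1 y.2) g.ofConv.toLinearMap
    have hτ' : ∀ y : S', τ.symm (y : P0) ∈ S' := fun y => (HopfMod.mem_tens_iff _ _).1 (hS's y.1 y.2) g⁻¹.ofConv.toLinearMap
    let τS : S' ≃+* S' :=
      { toFun := fun y => ⟨τ y, hτ y⟩
        invFun := fun y => ⟨τ.symm y, hτ' y⟩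
        left_inv := fun y => Subtype.ext (τ.symm_apply_apply _)
        right_inv := fun y => Subtype.ext (τ.apply_symm_apply _)
        map_mul' := fun _ _ => Subtype.ext (map_mul τ _ _)
        map_add' := fun _ _ => Subtype.ext (map_add τ _ _) }
    exact mem_qfSet_map τ τS (fun y => rfl) hr
  have hFs : IsSubcomod (k := k) (A := A) (F.restrictScalars k) := by
    refine isSubcomod_of_act_mem _ fun g v hv => Submodule.mem_sInf.2 fun P hP => ?_
    let τ : P0 ≃+* P0 := EtQuotH28.actEquiv (k := k) (toConv g)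
    haveI := hP.1
    have hP' : Ideal.comap τ.toRingHom P ∈ Bad :=
      ⟨Ideal.comap_isPrime τ.toRingHom P, fun r hr => hP.2 _ (hGact (toConv g) r hr)⟩
    exact (Submodule.mem_sInf.1 hv _ hP' : τ v ∈ P)
  obtain ⟨a, ha, c, hc, hac⟩ := Submodule.mem_sup.1 (hFK ▸ Submodule.mem_top : (1 : P0) ∈ F ⊔ K)
  obtain ⟨E, hE⟩ := exists_reynolds (V := P0) (A := A) hG
  let f := E a
  have hfF : f ∈ F := hE.apply_mem hG hFs ha
  have hfinv : f ∈ GLin.invariants k A P0 := hE.mem a
  have hpf : p f = 1 := by
    have h1 : E a + E c = 1 := by rw [← map_add, hac]; exact (hE.fix 1).2 HopfMod.one_mem_fixedPts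
    have h2 : p (E c) = 0 := hE.apply_mem hG hKs hc
    have := congrArg p h1
    rwa [map_add, h2, add_zero, map_one] at this
  have hf0 : f ≠ 0 := fun h => one_ne_zero (α := R) (by rw [← hpf, h, map_zero])
  let R' := Localization.Away f
  have hle : Submonoid.powers f ≤ nonZeroDivisors P0 := powers_le_nonZeroDivisors_of_noZeroDivisors hf0
  haveI : IsDomain R' := IsLocalization.isDomain_localization hle
  haveI : IsIntegrallyClosed R' := isIntegrallyClosed_of_isLocalization R' _ hle
  haveI : Algebra.FiniteType k R' := by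
    haveI : Algebra.FiniteType P0 R' := IsLocalization.finiteType_of_monoid_fg (Submonoid.powers f) R'
    exact Algebra.FiniteType.trans (S := P0) inferInstance inferInstance
  letI cR' : Comod k A R' := locComod hfinv R'
  haveI : GLin.IsCoactAlg k A R' := loc_isCoactAlg hfinv R'
  let pR : R' →ₐ[k] R := IsLocalization.liftAlgHom (M := Submonoid.powers f) (f := p) (fun y => by
    obtain ⟨_, n, rfl⟩ := y
    show IsUnit (p (f ^ n))
    rw [map_pow, hpf, one_pow]; exact isUnit_one)
  have hpR : ∀ r, pR (algebraMap P0 R' r) = p r := fun r => by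
    simp only [pR, IsLocalization.liftAlgHom_apply, IsLocalization.lift_eq]
    rfl
  letI cS' : Comod k A S' := subComod (Subalgebra.toSubmodule S') hS's
  haveI : GLin.IsCoactAlg k A S' := subalgebra_isCoactAlg S' hS's
  let φ' : S' →ₐ[k] R' := (IsScalarTower.toAlgHom k P0 R').comp S'.val
  have hφi : Function.Injective φ' := (IsLocalization.injective R' hle).comp Subtype.val_injective
  haveI : Algebra.FiniteType k S' :=
    (Subalgebra.fg_iff_finiteType _).1 ⟨gU, le_antisymm
      (Algebra.adjoin_le fun x hx => Algebra.subset_adjoin (hgU ▸ Submodule.subset_span hx))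
      (Algebra.adjoin_le fun x hx => by
        have hsp : Submodule.span k (gU : Set P0) ≤ Subalgebra.toSubmodule (Algebra.adjoin k (gU : Set P0)) :=
          Submodule.span_le.2 Algebra.subset_adjoin
        exact hsp (hgU.symm ▸ hx))⟩
  have hqf : φ'.toRingHom.QuasiFinite := by
    rw [show φ'.toRingHom = algebraMap S' R' from RingHom.ext fun y => rfl, RingHom.quasiFinite_algebraMap]
    haveI : Algebra.FiniteType S' R' := Algebra.FiniteType.of_restrictScalars_finiteType k S' R'
    haveI : IsNoetherianRing R' := Algebra.FiniteType.isNoetherianRing k R'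
    refine quasiFinite_of_forall fun P hP => ?_
    haveI := hP
    let P₀ := P.comap (algebraMap P0 R')
    have hfP : f ∉ P₀ := fun h => hP.ne_top (Ideal.eq_top_of_isUnit_mem _ h (IsLocalization.Away.algebraMap_isUnit f))
    obtain ⟨r, hr, hrP⟩ : ∃ r ∈ G0, r ∉ P₀ := by
      by_contra! hall
      exact hfP (Submodule.mem_sInf.1 hfF P₀ ⟨inferInstance, hall⟩)
    exact quasiFiniteAt_localization (Submonoid.powers f) P hr hrP
  refine ⟨R', inferInstance, inferInstance, inferInstance, inferInstance, cR', inferInstance,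
    S', inferInstance, inferInstance, inferInstance, cS', inferInstance, inferInstance, inferInstance,
    pR, pS, φ', ?_, hpSsurj, hφi, hqf, ?_, ?_, ?_, ?_⟩
  · exact fun r => by obtain ⟨y, rfl⟩ := hpsurj r; exact ⟨algebraMap P0 R' y, hpR y⟩
  · have key : (GLin.coactAlgHom k A R).comp pR = (Algebra.TensorProduct.map pR (AlgHom.id k A)).comp (locCoact hfinv R') := by
      refine AlgHom.coe_ringHom_injective (IsLocalization.ringHom_ext (Submonoid.powers f) (RingHom.ext fun r => ?_))
      show Comod.coact (k := k) (A := A) (pR (algebraMap P0 R' r)) = pR.toLinearMap.rTensor A (locCoact hfinv R' (algebraMap P0 R' r))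
      rw [locCoact_algebraMap, ← LinearMap.rTensor_comp_apply, hpR, show pR.toLinearMap ∘ₗ (IsScalarTower.toAlgHom k P0 R').toLinearMap = p.toLinearMap from LinearMap.ext hpR]
      exact comodHom_apply hpc r
    exact LinearMap.ext fun z => DFunLike.congr_fun key z
  · refine LinearMap.ext fun y => ?_
    have hi : Function.Injective (ι₀.rTensor A) := Module.Flat.rTensor_preserves_injective_linearMap _ hinj
    apply hi
    show ι₀.rTensor A (Comod.coact (k := k) (A := A) (pS y)) = _
    rw [← comodHom_apply hι₀, show ι₀ (pS y) = p y from hpS y, LinearMap.comp_apply, ← LinearMap.rTensor_comp_apply,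
      show ι₀ ∘ₗ pS.toLinearMap = p.toLinearMap ∘ₗ (Subalgebra.toSubmodule S').subtype from LinearMap.ext hpS,
      LinearMap.rTensor_comp_apply]
    erw [rTensor_coactRestrict]
    exact comodHom_apply hpc (y : P0)
  · refine LinearMap.ext fun y => ?_
    show Comod.coact (k := k) (A := A) (algebraMap P0 R' (y : P0)) = φ'.toLinearMap.rTensor A (Comod.coact (k := k) (A := A) y)
    rw [show φ'.toLinearMap = (IsScalarTower.toAlgHom k P0 R').toLinearMap ∘ₗ (Subalgebra.toSubmodule S').subtype from rfl,
      LinearMap.rTensor_comp_apply]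
    erw [rTensor_coactRestrict]
    exact locCoact_algebraMap hfinv R' (y : P0)
  · exact AlgHom.ext fun y => (hpR (y : P0)).trans (hpS y).symm

end Groth.Agent.EqZMT28
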